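import Groth.Agent.Lib.ProSys.Triangles
import Groth.Agent.Lib.DerCat.TStruct

/-!
# Inverse systems of uniformly bounded objects of the derived category
-/

universe w v u

open CategoryTheory CategoryTheory.Limits CategoryTheory.Pretriangulated Opposite DerivedCategory
open DerivedCategory.TStructure

namespace Groth.Agent.Lib.ProSys.Derived

set_option backward.isDefEq.respectTransparency false

open Groth.Agent.Lib.ProSys.Triangles

section General

variable {C : Type u} [Category.{v} C]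

lemma isProIso_of_iso {X Y X' Y' : ARSys.PS C} {φ : X ⟶ Y} {φ' : X' ⟶ Y'} (eX : X ≅ X')
    (eY : Y ≅ Y') (w : φ ≫ eY.hom = eX.hom ≫ φ') (h : DerCA.IsProIso φ') : DerCA.IsProIso φ := by
  intro n
  obtain ⟨m, hm, b, hb, hb'⟩ := h n
  refine ⟨m, hm, eY.hom.app (op m) ≫ b ≫ eX.inv.app (op n), ?_, ?_⟩
  · rw [← Category.assoc, ← NatTrans.comp_app, w, NatTrans.comp_app, Category.assoc,
      reassoc_of% hb, tr_nat eX.inv]
    simp
  · have : eX.inv.app (op n) ≫ φ.app (op n) = φ'.app (op n) ≫ eY.inv.app (op n) := by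
      rw [← NatTrans.comp_app, ← NatTrans.comp_app]
      congr 1
      rw [Iso.inv_comp_eq, ← Category.assoc, Iso.eq_comp_inv, w]
    rw [Category.assoc, Category.assoc, this, reassoc_of% hb', tr_nat eY.inv]
    simp

lemma isProIso_of_isZero [HasZeroMorphisms C] {X Y : ARSys.PS C} (φ : X ⟶ Y)
    (hX : ∀ n : ℕ, IsZero (X.obj (op n))) (hY : ∀ n : ℕ, IsZero (Y.obj (op n))) :
    DerCA.IsProIso φ :=
  fun n => ⟨n, le_rfl, 0, (hX n).eq_of_src _ _, (hY n).eq_of_src _ _⟩

lemma exists_isEssConstant_of_iso {X X' : ARSys.PS C} (e : X ≅ X')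
    (h : ∃ (B : C) (c : (Functor.const ℕᵒᵖ).obj B ⟶ X'), DerCA.IsEssConstant X' B c) :
    ∃ (B : C) (c : (Functor.const ℕᵒᵖ).obj B ⟶ X), DerCA.IsEssConstant X B c := by
  obtain ⟨B, c, hc⟩ := h
  refine ⟨B, c ≫ e.inv, ?_⟩
  rw [isEssConstant_iff_isProIso] at hc ⊢
  exact isProIso_of_iso (Iso.refl _) e (by simp) hc

lemma exists_isEssConstant_of_isZero [HasZeroMorphisms C] (X : ARSys.PS C)
    (hX : ∀ n : ℕ, IsZero (X.obj (op n))) :
    ∃ (B : C) (c : (Functor.const ℕᵒᵖ).obj B ⟶ X), DerCA.IsEssConstant X B c := by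
  refine ⟨X.obj (op 0),
    { app := fun j => 0, naturality := fun j j' e => (hX 0).eq_of_src _ _ }, ?_⟩
  rw [isEssConstant_iff_isProIso]
  exact isProIso_of_isZero _ (fun _ => hX 0) hX

end General

variable {A : Type u} [Category.{v} A] [Abelian A] [HasDerivedCategory.{w} A]

local notation "H" => DerivedCategory.homologyFunctor A

lemma homology_injective {X Y : DerivedCategory A} (b : ℤ) [X.IsGE b] [X.IsLE b] [Y.IsGE b]
    [Y.IsLE b] {f g : X ⟶ Y} (h : (H b).map f = (H b).map g) : f = g :=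
  sub_eq_zero.1 (DerCat.TStruct.eq_zero_of_homologyMap_eq_zero b (f - g)
    (by rw [Functor.map_sub, h, sub_self]))

lemma homology_surjective {X Y : DerivedCategory A} (b : ℤ) [X.IsGE b] [X.IsLE b] [Y.IsGE b]
    [Y.IsLE b] (φ : (H b).obj X ⟶ (H b).obj Y) : ∃ f : X ⟶ Y, (H b).map f = φ := by
  obtain ⟨M, ⟨eX⟩⟩ := exists_iso_singleFunctor_obj_of_isGE_of_isLE X b
  obtain ⟨N, ⟨eY⟩⟩ := exists_iso_singleFunctor_obj_of_isGE_of_isLE Y b
  let e := singleFunctorCompHomologyFunctorIso A b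
  refine ⟨eX.hom ≫ (singleFunctor A b).map
    (e.inv.app M ≫ (H b).map eX.inv ≫ φ ≫ (H b).map eY.hom ≫ e.hom.app N) ≫ eY.inv, ?_⟩
  have hn : ∀ ψ : M ⟶ N, (H b).map ((singleFunctor A b).map ψ) = e.hom.app M ≫ ψ ≫ e.inv.app N :=
    fun ψ => (NatIso.naturality_2 e ψ).symm
  rw [Functor.map_comp, Functor.map_comp, hn]
  simp only [Category.assoc, Iso.hom_inv_id_app_assoc]
  rw [← Functor.map_comp_assoc, eX.hom_inv_id, CategoryTheory.Functor.map_id, Category.id_comp,
    ← Functor.map_comp, eY.hom_inv_id, CategoryTheory.Functor.map_id, Category.comp_id]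

lemma isProIso_pure {X Y : ARSys.PS (DerivedCategory A)} (f : X ⟶ Y) (b : ℤ)
    [∀ n : ℕ, (X.obj (op n)).IsGE b] [∀ n : ℕ, (X.obj (op n)).IsLE b]
    [∀ n : ℕ, (Y.obj (op n)).IsGE b] [∀ n : ℕ, (Y.obj (op n)).IsLE b]
    (h : DerCA.IsProIso (Functor.whiskerRight f (H b))) : DerCA.IsProIso f := by
  intro n
  obtain ⟨m, hm, β, hβ, hβ'⟩ := h n
  obtain ⟨g, hg⟩ := homology_surjective b β
  refine ⟨m, hm, g, homology_injective b ?_, homology_injective b ?_⟩
  · rw [Functor.map_comp, hg]; exact hβ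
  · rw [Functor.map_comp, hg]; exact hβ'

lemma exists_isEssConstant_pure (X : ARSys.PS (DerivedCategory A)) (b : ℤ)
    [∀ n : ℕ, (X.obj (op n)).IsGE b] [∀ n : ℕ, (X.obj (op n)).IsLE b]
    (h : ∃ (B : A) (c : (Functor.const ℕᵒᵖ).obj B ⟶ X ⋙ H b),
      DerCA.IsEssConstant (X ⋙ H b) B c) :
    ∃ (L : DerivedCategory A) (c : (Functor.const ℕᵒᵖ).obj L ⟶ X), DerCA.IsEssConstant X L c := by
  obtain ⟨B, c, hc⟩ := h
  rw [isEssConstant_iff_isProIso] at hc
  let L := (singleFunctor A b).obj B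
  let e : (H b).obj L ≅ B := (singleFunctorCompHomologyFunctorIso A b).app B
  choose g hg using fun n : ℕ =>
    homology_surjective (X := L) (Y := X.obj (op n)) b (e.hom ≫ c.app (op n))
  let c' : (Functor.const ℕᵒᵖ).obj L ⟶ X :=
    { app := fun j => g j.unop
      naturality := fun j j' k => by
        change 𝟙 L ≫ g j'.unop = g j.unop ≫ X.map k
        apply homology_injective b
        rw [Functor.map_comp, Functor.map_comp, hg, hg]
        have := c.naturality k
        simp only [Functor.const_obj_map, Category.id_comp, Functor.comp_map] at this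
        simpa using congrArg (e.hom ≫ ·) this }
  have : ∀ n : ℕ, (((Functor.const ℕᵒᵖ).obj L).obj (op n)).IsGE b := fun _ =>
    inferInstanceAs (((singleFunctor A b).obj B).IsGE b)
  have : ∀ n : ℕ, (((Functor.const ℕᵒᵖ).obj L).obj (op n)).IsLE b := fun _ =>
    inferInstanceAs (((singleFunctor A b).obj B).IsLE b)
  refine ⟨L, c', (isEssConstant_iff_isProIso X L c').2 (isProIso_pure c' b ?_)⟩
  refine isProIso_of_iso (NatIso.ofComponents (F := (Functor.const ℕᵒᵖ).obj L ⋙ H b) (G := (Functor.const ℕᵒᵖ).obj B) (fun _ => e) (fun _ => ?_)) (Iso.refl _) ?_ hc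
  · simp
  · ext j
    change (H b).map (g j.unop) ≫ 𝟙 _ = e.hom ≫ c.app (op j.unop)
    rw [hg]; simp

section Trunc

variable (b : ℤ) (X : DerivedCategory A)

lemma isIso_ι (i : ℤ) (hi : i < b) : IsIso ((H i).map ((t.truncLTι b).app X)) :=
  @DerCat.TStruct.isIso_homologyMap_mor₁ _ _ _ _ _ (t.triangleLTGE_distinguished b X) b
    (inferInstance : t.IsGE ((t.truncGE b).obj X) b) i hi

lemma isIso_π (i : ℤ) (hi : b ≤ i) : IsIso ((H i).map ((t.truncGEπ b).app X)) :=
  @DerCat.TStruct.isIso_homologyMap_mor₂ _ _ _ _ _ (t.triangleLTGE_distinguished b X) (b - 1)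
    (inferInstance : t.IsLE ((t.truncLT b).obj X) (b - 1)) i (by omega)

lemma isZero_LT (i : ℤ) (hi : b ≤ i) : IsZero ((H i).obj ((t.truncLT b).obj X)) :=
  isZero_of_isLE ((t.truncLT b).obj X) (b - 1) i (by omega)

lemma isZero_GE (i : ℤ) (hi : i < b) : IsZero ((H i).obj ((t.truncGE b).obj X)) :=
  isZero_of_isGE ((t.truncGE b).obj X) b i hi

end Trunc

/-- Homology of the truncated systems. -/
noncomputable def isoLT (X : ARSys.PS (DerivedCategory A)) (b i : ℤ) (hi : i < b) :
    (X ⋙ t.truncLT b) ⋙ H i ≅ X ⋙ H i :=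
  haveI : ∀ n, IsIso ((Functor.whiskerRight (Functor.whiskerLeft X (t.truncLTι b)) (H i)).app n) :=
    fun n => isIso_ι b (X.obj n) i hi
  haveI := NatIso.isIso_of_isIso_app (Functor.whiskerRight (Functor.whiskerLeft X (t.truncLTι b)) (H i))
  asIso (Functor.whiskerRight (Functor.whiskerLeft X (t.truncLTι b)) (H i))

/-- Homology of the truncated systems. -/
noncomputable def isoGE (X : ARSys.PS (DerivedCategory A)) (b i : ℤ) (hi : b ≤ i) :
    X ⋙ H i ≅ (X ⋙ t.truncGE b) ⋙ H i :=
  haveI : ∀ n, IsIso ((Functor.whiskerRight (Functor.whiskerLeft X (t.truncGEπ b)) (H i)).app n) :=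
    fun n => isIso_π b (X.obj n) i hi
  haveI := NatIso.isIso_of_isIso_app (Functor.whiskerRight (Functor.whiskerLeft X (t.truncGEπ b)) (H i))
  asIso (Functor.whiskerRight (Functor.whiskerLeft X (t.truncGEπ b)) (H i))

lemma isDist_trunc (X : ARSys.PS (DerivedCategory A)) (b : ℤ) :
    IsDist (Functor.whiskerLeft X (t.truncLTι b)) (Functor.whiskerLeft X (t.truncGEπ b))
      (Functor.whiskerLeft X (t.truncGEδLT b) : X ⋙ t.truncGE b ⟶
        (X ⋙ t.truncLT b) ⋙ shiftFunctor (DerivedCategory A) (1 : ℤ)) :=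
  fun n => t.triangleLTGE_distinguished b (X.obj (op n))

theorem isProIso_of_homology (a : ℤ) : ∀ (k : ℕ) (X Y : ARSys.PS (DerivedCategory A)) (f : X ⟶ Y),
    (∀ n : ℕ, (X.obj (op n)).IsGE a) → (∀ n : ℕ, (X.obj (op n)).IsLE (a + k - 1)) →
    (∀ n : ℕ, (Y.obj (op n)).IsGE a) → (∀ n : ℕ, (Y.obj (op n)).IsLE (a + k - 1)) →
    (∀ i, DerCA.IsProIso (Functor.whiskerRight f (H i))) → DerCA.IsProIso f := by
  intro k
  induction k with
  | zero =>
    intro X Y f h1 h2 h3 h4 _
    refine isProIso_of_isZero f (fun n => ?_) (fun n => ?_)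
    · have := h1 n; have := h2 n
      exact t.isZero (X.obj (op n)) (a + (0 : ℕ) - 1) a (by simp)
    · have := h3 n; have := h4 n
      exact t.isZero (Y.obj (op n)) (a + (0 : ℕ) - 1) a (by simp)
  | succ k ih =>
    intro X Y f h1 h2 h3 h4 hf
    let b : ℤ := a + k
    refine isProIso_middle (isDist_trunc X b) (isDist_trunc Y b)
      (Functor.whiskerRight f (t.truncLT b)) f (Functor.whiskerRight f (t.truncGE b)) ?_ ?_ ?_ ?_ ?_
    · ext j; exact ((t.truncLTι b).naturality (f.app j)).symm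
    · ext j; exact ((t.truncGEπ b).naturality (f.app j)).symm
    · ext j; exact ((t.truncGEδLT b).naturality (f.app j)).symm
    · refine ih _ _ _ (fun n => ?_) (fun n => t.isLE_truncLT_obj _ _ _ (by omega)) (fun n => ?_)
        (fun n => t.isLE_truncLT_obj _ _ _ (by omega)) (fun i => ?_)
      · have : t.IsGE (X.obj (op n)) a := h1 n
        exact inferInstanceAs (t.IsGE ((t.truncLT b).obj (X.obj (op n))) a)
      · have : t.IsGE (Y.obj (op n)) a := h3 n
        exact inferInstanceAs (t.IsGE ((t.truncLT b).obj (Y.obj (op n))) a)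
      · by_cases hi : i < b
        · refine isProIso_of_iso (isoLT X b i hi) (isoLT Y b i hi) ?_ (hf i)
          ext j
          change (H i).map ((t.truncLT b).map (f.app j)) ≫ (H i).map ((t.truncLTι b).app _) =
            (H i).map ((t.truncLTι b).app _) ≫ (H i).map (f.app j)
          rw [← Functor.map_comp, ← Functor.map_comp]
          exact congrArg (H i).map ((t.truncLTι b).naturality (f.app j))
        · exact isProIso_of_isZero _ (fun n => isZero_LT b _ i (by omega))
            (fun n => isZero_LT b _ i (by omega))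
    · have : ∀ n : ℕ, (((X ⋙ t.truncGE b).obj (op n))).IsGE b := fun n =>
        (inferInstance : t.IsGE ((t.truncGE b).obj (X.obj (op n))) b)
      have : ∀ n : ℕ, (((Y ⋙ t.truncGE b).obj (op n))).IsGE b := fun n =>
        (inferInstance : t.IsGE ((t.truncGE b).obj (Y.obj (op n))) b)
      have : ∀ n : ℕ, (((X ⋙ t.truncGE b).obj (op n))).IsLE b := fun n => by
        have : t.IsLE (X.obj (op n)) (a + (k + 1 : ℕ) - 1) := h2 n
        have : t.IsLE (X.obj (op n)) b := t.isLE_of_le (X.obj (op n)) (a + (k + 1 : ℕ) - 1) b (by omega)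
        exact (inferInstance : t.IsLE ((t.truncGE b).obj (X.obj (op n))) b)
      have : ∀ n : ℕ, (((Y ⋙ t.truncGE b).obj (op n))).IsLE b := fun n => by
        have : t.IsLE (Y.obj (op n)) (a + (k + 1 : ℕ) - 1) := h4 n
        have : t.IsLE (Y.obj (op n)) b := t.isLE_of_le (Y.obj (op n)) (a + (k + 1 : ℕ) - 1) b (by omega)
        exact (inferInstance : t.IsLE ((t.truncGE b).obj (Y.obj (op n))) b)
      refine isProIso_pure _ b (isProIso_of_iso (isoGE X b b le_rfl).symm (isoGE Y b b le_rfl).symm ?_ (hf b))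
      rw [Iso.symm_hom, Iso.symm_hom, Iso.comp_inv_eq, Category.assoc, Iso.eq_inv_comp]
      ext j
      change (H b).map ((t.truncGEπ b).app _) ≫ (H b).map ((t.truncGE b).map (f.app j)) =
        (H b).map (f.app j) ≫ (H b).map ((t.truncGEπ b).app _)
      rw [← Functor.map_comp, ← Functor.map_comp]
      exact congrArg (H b).map ((t.truncGEπ b).naturality (f.app j)).symm

theorem exists_isEssConstant_of_homology (a : ℤ) : ∀ (k : ℕ) (X : ARSys.PS (DerivedCategory A)),
    (∀ n : ℕ, (X.obj (op n)).IsGE a) → (∀ n : ℕ, (X.obj (op n)).IsLE (a + k - 1)) →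
    (∀ i, ∃ (B : A) (c : (Functor.const ℕᵒᵖ).obj B ⟶ X ⋙ H i),
      DerCA.IsEssConstant (X ⋙ H i) B c) →
    ∃ (L : DerivedCategory A) (c : (Functor.const ℕᵒᵖ).obj L ⟶ X), DerCA.IsEssConstant X L c := by
  intro k
  induction k with
  | zero =>
    intro X h1 h2 _
    refine exists_isEssConstant_of_isZero X fun n => ?_
    have := h1 n; have := h2 n
    exact t.isZero (X.obj (op n)) (a + (0 : ℕ) - 1) a (by simp)
  | succ k ih =>
    intro X h1 h2 hX
    let b : ℤ := a + k
    refine exists_isEssConstant_middle (isDist_trunc X b) ?_ ?_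
    · refine ih _ (fun n => ?_) (fun n => t.isLE_truncLT_obj _ _ _ (by omega)) (fun i => ?_)
      · have : t.IsGE (X.obj (op n)) a := h1 n
        exact inferInstanceAs (t.IsGE ((t.truncLT b).obj (X.obj (op n))) a)
      · by_cases hi : i < b
        · exact exists_isEssConstant_of_iso (isoLT X b i hi) (hX i)
        · exact exists_isEssConstant_of_isZero _ fun n => isZero_LT b _ i (by omega)
    · have : ∀ n : ℕ, (((X ⋙ t.truncGE b).obj (op n))).IsGE b := fun n =>
        (inferInstance : t.IsGE ((t.truncGE b).obj (X.obj (op n))) b)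
      have : ∀ n : ℕ, (((X ⋙ t.truncGE b).obj (op n))).IsLE b := fun n => by
        have : t.IsLE (X.obj (op n)) (a + (k + 1 : ℕ) - 1) := h2 n
        have : t.IsLE (X.obj (op n)) b := t.isLE_of_le (X.obj (op n)) (a + (k + 1 : ℕ) - 1) b (by omega)
        exact (inferInstance : t.IsLE ((t.truncGE b).obj (X.obj (op n))) b)
      exact exists_isEssConstant_pure _ b (exists_isEssConstant_of_iso (isoGE X b b le_rfl).symm (hX b))

lemma isGE_isLE_of_isZero (K : DerivedCategory A) (a b : ℤ)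
    (h : ∀ i : ℤ, i < a ∨ b < i → IsZero ((H i).obj K)) : K.IsGE a ∧ K.IsLE b :=
  ⟨(isGE_iff _ _).2 fun i hi => h i (Or.inl hi), (isLE_iff _ _).2 fun i hi => h i (Or.inr hi)⟩

end Groth.Agent.Lib.ProSys.Derived
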