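import Groth.Prelude.Def_DerCA
import Mathlib.CategoryTheory.Triangulated.Pretriangulated

/-!
# Inverse systems of distinguished triangles
-/

universe v u

open CategoryTheory CategoryTheory.Limits CategoryTheory.Pretriangulated Opposite

namespace Groth.Agent.Lib.ProSys.Triangles

set_option backward.isDefEq.respectTransparency false

section General

variable {C : Type u} [Category.{v} C]

lemma tr_comp (X : ARSys.PS C) {n m l : ℕ} (h₁ : n ≤ m) (h₂ : m ≤ l) :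
    ARSys.tr X h₂ ≫ ARSys.tr X h₁ = ARSys.tr X (h₁.trans h₂) := by
  rw [← Functor.map_comp]
  rfl

lemma tr_nat {X Y : ARSys.PS C} (f : X ⟶ Y) {n m : ℕ} (h : n ≤ m) :
    ARSys.tr X h ≫ f.app (op n) = f.app (op m) ≫ ARSys.tr Y h :=
  f.naturality _

lemma tr_self (X : ARSys.PS C) {n : ℕ} (h : n ≤ n) : ARSys.tr X h = 𝟙 _ :=
  X.map_id _

lemma isEssConstant_iff_isProIso (X : ARSys.PS C) (A : C)
    (c : (Functor.const ℕᵒᵖ).obj A ⟶ X) : DerCA.IsEssConstant X A c ↔ DerCA.IsProIso c := by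
  have hc : ∀ {n m : ℕ} (h : n ≤ m), c.app (op m) ≫ ARSys.tr X h = c.app (op n) := fun h => by
    rw [← tr_nat c h]
    exact Category.id_comp _
  constructor
  · rintro ⟨i, s, hs, hk⟩ n
    obtain ⟨k, hi, hn, eq⟩ := hk n
    refine ⟨k, hn, ARSys.tr X hi ≫ s, ?_, by rw [Category.assoc, ← eq]⟩
    rw [← Category.assoc, hc hi, hs]
    rfl
  · intro h
    obtain ⟨i, hi0, s, hs0, -⟩ := h 0
    have hs : c.app (op i) ≫ s = 𝟙 A := hs0
    refine ⟨i, s, hs, fun j => ?_⟩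
    obtain ⟨l, hl, b, -, hb⟩ := h (max i j)
    refine ⟨l, (le_max_left i j).trans hl, (le_max_right i j).trans hl, ?_⟩
    rw [← tr_comp X (le_max_left i j) hl, ← tr_comp X (le_max_right i j) hl, ← hb]
    simp only [Category.assoc]
    erw [hc (le_max_right i j), reassoc_of% hc (le_max_left i j), reassoc_of% hs]
    exact congrArg (b ≫ ·) (Category.id_comp _).symm

end General

section Tri

variable {D : Type u} [Category.{v} D] [Preadditive D] [HasZeroObject D] [HasShift D ℤ]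
  [∀ n : ℤ, (shiftFunctor D n).Additive] [Pretriangulated D]

/-- Levelwise distinguished. -/
abbrev IsDist {X Y Z : ARSys.PS D} (f : X ⟶ Y) (g : Y ⟶ Z)
    (h : Z ⟶ X ⋙ shiftFunctor D (1 : ℤ)) : Prop :=
  ∀ n : ℕ, Triangle.mk (f.app (op n)) (g.app (op n)) (h.app (op n)) ∈ distTriang D

variable {X Y Z : ARSys.PS D} {f : X ⟶ Y} {g : Y ⟶ Z} {h : Z ⟶ X ⋙ shiftFunctor D (1 : ℤ)}

lemma h_nat (n m : ℕ) (hnm : n ≤ m) :
    ARSys.tr Z hnm ≫ h.app (op n) = h.app (op m) ≫ (ARSys.tr X hnm)⟦(1 : ℤ)⟧' :=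
  h.naturality _

variable (h) in
/-- The rotated connecting map. -/
noncomputable def hInv (n : ℕ) : (Z.obj (op n))⟦(-1 : ℤ)⟧ ⟶ X.obj (op n) :=
  (h.app (op n))⟦(-1 : ℤ)⟧' ≫
    (shiftFunctorCompIsoId D (1 : ℤ) (-1) (by omega)).hom.app (X.obj (op n))

lemma hInv_nat (n m : ℕ) (hnm : n ≤ m) :
    (ARSys.tr Z hnm)⟦(-1 : ℤ)⟧' ≫ hInv h n = hInv h m ≫ ARSys.tr X hnm := by
  simp only [hInv, Category.assoc]
  rw [← Functor.map_comp_assoc, h_nat, Functor.map_comp_assoc]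
  exact congrArg ((h.app (op m))⟦(-1 : ℤ)⟧' ≫ ·)
    ((shiftFunctorCompIsoId D (1 : ℤ) (-1) (by omega)).hom.naturality (ARSys.tr X hnm))

variable (hT : IsDist f g h)
include hT

lemma lift_f {n : ℕ} {W : D} (u : W ⟶ Y.obj (op n)) (hu : u ≫ g.app (op n) = 0) :
    ∃ v : W ⟶ X.obj (op n), u = v ≫ f.app (op n) :=
  Triangle.coyoneda_exact₂ _ (hT n) u hu

lemma lift_g {n : ℕ} {W : D} (u : W ⟶ Z.obj (op n)) (hu : u ≫ h.app (op n) = 0) :
    ∃ v : W ⟶ Y.obj (op n), u = v ≫ g.app (op n) :=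
  Triangle.coyoneda_exact₃ _ (hT n) u hu

lemma invRotate_mor₁ (n : ℕ) :
    (Triangle.mk (f.app (op n)) (g.app (op n)) (h.app (op n))).invRotate.mor₁ = -hInv h n := by
  simp [hInv, Triangle.invRotate]
  rfl

lemma lift_h {n : ℕ} {W : D} (u : W ⟶ X.obj (op n)) (hu : u ≫ f.app (op n) = 0) :
    ∃ v : W ⟶ (Z.obj (op n))⟦(-1 : ℤ)⟧, u = v ≫ hInv h n := by
  obtain ⟨v, hv⟩ : ∃ v : W ⟶ (Z.obj (op n))⟦(-1 : ℤ)⟧, u = v ≫ (-hInv h n) := by
    obtain ⟨v, hv⟩ := Triangle.coyoneda_exact₂ _ (inv_rot_of_distTriang _ (hT n)) u hu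
    exact ⟨v, hv.trans (congrArg (v ≫ ·) (invRotate_mor₁ hT n))⟩
  exact ⟨-v, by rw [hv]; simp⟩

lemma hInv_comp_f (n : ℕ) : hInv h n ≫ f.app (op n) = 0 := by
  have e : (-hInv h n) ≫ f.app (op n) = 0 :=
    (congrArg (· ≫ f.app (op n)) (invRotate_mor₁ hT n).symm).trans
      (comp_distTriang_mor_zero₁₂ _ (inv_rot_of_distTriang _ (hT n)))
  rwa [Preadditive.neg_comp, neg_eq_zero] at e

/-- If the third system is pro-zero, the first map is a pro-isomorphism. -/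
theorem isProIso_of_isProZero (hZ : DerCA.IsProZero Z) : DerCA.IsProIso f := by
  intro n
  obtain ⟨a, hna, hza⟩ := hZ n
  obtain ⟨b, hab, hzb⟩ := hZ a
  obtain ⟨β, hβ⟩ := lift_f hT (ARSys.tr Y hab) (by rw [tr_nat g hab, hzb, comp_zero])
  obtain ⟨w, hw⟩ := lift_h hT (f.app (op b) ≫ β - ARSys.tr X hab) (by
    rw [Preadditive.sub_comp, Category.assoc, ← hβ, tr_nat f hab, sub_self])
  refine ⟨b, hna.trans hab, β ≫ ARSys.tr X hna, ?_, ?_⟩
  · have e : (f.app (op b) ≫ β - ARSys.tr X hab) ≫ ARSys.tr X hna = 0 := by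
      rw [hw, Category.assoc, ← hInv_nat _ _ hna, hza, Functor.map_zero, zero_comp, comp_zero]
    rw [Preadditive.sub_comp, sub_eq_zero, Category.assoc] at e
    rw [e, tr_comp]
  · rw [Category.assoc, tr_nat f hna, ← Category.assoc, ← hβ, tr_comp]

variable {X' Y' Z' : ARSys.PS D} {f' : X' ⟶ Y'} {g' : Y' ⟶ Z'}
  {h' : Z' ⟶ X' ⋙ shiftFunctor D (1 : ℤ)} (hT' : IsDist f' g' h')
  (φ₁ : X ⟶ X') (φ₂ : Y ⟶ Y') (φ₃ : Z ⟶ Z')
  (c₁ : f ≫ φ₂ = φ₁ ≫ f') (c₂ : g ≫ φ₃ = φ₂ ≫ g')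
  (c₃ : h ≫ Functor.whiskerRight φ₁ (shiftFunctor D (1 : ℤ)) = φ₃ ≫ h')
  (h₁ : DerCA.IsProIso φ₁) (h₃ : DerCA.IsProIso φ₃)

include hT' c₁ c₂ c₃ h₁ h₃

/-- The five lemma for pro-isomorphisms. -/
theorem isProIso_middle : DerCA.IsProIso φ₂ := by
  have e₁ : ∀ n, f.app (op n) ≫ φ₂.app (op n) = φ₁.app (op n) ≫ f'.app (op n) := fun n => by
    rw [← NatTrans.comp_app, c₁, NatTrans.comp_app]
  have e₂ : ∀ n, g.app (op n) ≫ φ₃.app (op n) = φ₂.app (op n) ≫ g'.app (op n) := fun n => by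
    rw [← NatTrans.comp_app, c₂, NatTrans.comp_app]
  have e₃ : ∀ n, h.app (op n) ≫ (φ₁.app (op n))⟦(1 : ℤ)⟧' = φ₃.app (op n) ≫ h'.app (op n) :=
    fun n => by
      have := NatTrans.congr_app c₃ (op n)
      exact this
  have e₃' : ∀ n, hInv h n ≫ φ₁.app (op n) = (φ₃.app (op n))⟦(-1 : ℤ)⟧' ≫ hInv h' n := fun n => by
    simp only [hInv, Category.assoc]
    rw [← Functor.map_comp_assoc, ← e₃, Functor.map_comp_assoc]
    exact congrArg ((h.app (op n))⟦(-1 : ℤ)⟧' ≫ ·)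
      ((shiftFunctorCompIsoId D (1 : ℤ) (-1) (by omega)).hom.naturality (φ₁.app (op n))).symm
  have monoOf : ∀ {A B : ARSys.PS D} (ψ : A ⟶ B), DerCA.IsProIso ψ → ∀ n, ∃ (m : ℕ) (hm : n ≤ m),
      ∀ (W : D) (u : W ⟶ A.obj (op m)), u ≫ ψ.app (op m) = 0 → u ≫ ARSys.tr A hm = 0 := by
    intro A B ψ hψ n
    obtain ⟨m, hm, b, hb, -⟩ := hψ n
    exact ⟨m, hm, fun W u hu => by rw [← hb, reassoc_of% hu, zero_comp]⟩
  have mono₂ : ∀ n, ∃ (m : ℕ) (hm : n ≤ m),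
      ∀ (W : D) (u : W ⟶ Y.obj (op m)), u ≫ φ₂.app (op m) = 0 → u ≫ ARSys.tr Y hm = 0 := by
    intro n
    obtain ⟨a', hna', hk₁⟩ := monoOf φ₁ h₁ n
    obtain ⟨a, ha'a, β, -, hβ⟩ := h₃ a'
    obtain ⟨b, hab, hk₃⟩ := monoOf φ₃ h₃ a
    refine ⟨b, hna'.trans (ha'a.trans hab), fun W u hu => ?_⟩
    obtain ⟨v, hv⟩ := lift_f hT (u ≫ ARSys.tr Y hab) (by
      rw [Category.assoc, tr_nat g hab, ← Category.assoc]
      exact hk₃ W _ (by rw [Category.assoc, e₂, reassoc_of% hu, zero_comp]))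
    obtain ⟨w, hw⟩ := lift_h hT' (v ≫ φ₁.app (op a)) (by
      rw [Category.assoc, ← e₁, ← reassoc_of% hv, tr_nat φ₂ hab, reassoc_of% hu, zero_comp])
    have key := hk₁ W (v ≫ ARSys.tr X ha'a - (w ≫ β⟦(-1 : ℤ)⟧') ≫ hInv h a') (by
      rw [Preadditive.sub_comp, Category.assoc, tr_nat φ₁ ha'a, reassoc_of% hw, ← hInv_nat _ _ ha'a,
        ← hβ, Functor.map_comp, Category.assoc (w ≫ _), e₃']
      simp)
    rw [Preadditive.sub_comp, sub_eq_zero, Category.assoc, Category.assoc, tr_comp] at key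
    rw [← tr_comp Y (hna'.trans ha'a) hab, reassoc_of% hv, ← tr_nat f, reassoc_of% key,
      tr_nat f, reassoc_of% hInv_comp_f hT a']
    simp
  have epi₂ : ∀ n, ∃ (m : ℕ) (hm : n ≤ m) (b : Y'.obj (op m) ⟶ Y.obj (op n)),
      b ≫ φ₂.app (op n) = ARSys.tr Y' hm := by
    intro n
    obtain ⟨a', hna', β₁, -, hβ₁⟩ := h₁ n
    obtain ⟨a, ha'a, hk₁⟩ := monoOf φ₁ h₁ a'
    obtain ⟨m, ham, β₃, -, hβ₃⟩ := h₃ a
    obtain ⟨p, hp⟩ := (shiftFunctor D (1 : ℤ)).map_surjective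
      ((shiftFunctorCompIsoId D (-1 : ℤ) 1 (by omega)).hom.app (Y'.obj (op m)) ≫
        g'.app (op m) ≫ β₃ ≫ h.app (op a))
    have hp0 : p ≫ φ₁.app (op a) = 0 := by
      apply (shiftFunctor D (1 : ℤ)).map_injective
      rw [Functor.map_comp, Functor.map_zero, hp]
      simp only [Category.assoc, e₃, reassoc_of% hβ₃]
      rw [h_nat, ← Category.assoc (g'.app (op m))]
      have z : g'.app (op m) ≫ h'.app (op m) = 0 := comp_distTriang_mor_zero₂₃ _ (hT' m)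
      simp [z]
    have hz : g'.app (op m) ≫ β₃ ≫ ARSys.tr Z ha'a ≫ h.app (op a') = 0 := by
      rw [h_nat]
      have := congrArg (fun q => q⟦(1 : ℤ)⟧') (hk₁ _ p hp0)
      simp only [Functor.map_comp, Functor.map_zero, hp, Category.assoc] at this
      exact (cancel_epi ((shiftFunctorCompIsoId D (-1 : ℤ) 1 (by omega)).hom.app _)).1
        (this.trans comp_zero.symm)
    obtain ⟨y, hy⟩ := lift_g hT (g'.app (op m) ≫ β₃ ≫ ARSys.tr Z ha'a) (by simpa using hz)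
    obtain ⟨x, hx⟩ := lift_f hT' (y ≫ φ₂.app (op a') - ARSys.tr Y' (ha'a.trans ham)) (by
      rw [Preadditive.sub_comp, Category.assoc, ← e₂, ← reassoc_of% hy, tr_nat φ₃,
        reassoc_of% hβ₃, tr_comp, tr_nat g', sub_self])
    refine ⟨m, hna'.trans (ha'a.trans ham), y ≫ ARSys.tr Y hna' - x ≫ β₁ ≫ f.app (op n), ?_⟩
    rw [Preadditive.sub_comp, Category.assoc, Category.assoc, Category.assoc, tr_nat φ₂, e₁,
      reassoc_of% hβ₁, tr_nat f', sub_eq_iff_eq_add', ← tr_comp Y' hna' (ha'a.trans ham),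
      ← reassoc_of% hx, Preadditive.sub_comp]
    simp
  intro n
  obtain ⟨a, hna, hk⟩ := mono₂ n
  obtain ⟨m, ham, b, hb⟩ := epi₂ a
  refine ⟨m, hna.trans ham, b ≫ ARSys.tr Y hna, ?_, ?_⟩
  · have := hk _ (φ₂.app (op m) ≫ b - ARSys.tr Y ham) (by
      rw [Preadditive.sub_comp, Category.assoc, hb, tr_nat φ₂, sub_self])
    rw [Preadditive.sub_comp, sub_eq_zero, Category.assoc] at this
    rw [this, tr_comp]
  · rw [Category.assoc, tr_nat φ₂, reassoc_of% hb, tr_comp]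

end Tri

section Const

variable {C : Type u} [Category.{v} C]

/-- Reindexing by translation. -/
lemma mono_add (k : ℕ) : Monotone (fun n : ℕ => k + n) := fun _ _ h => Nat.add_le_add_left h k

lemma reindex_tr (Y : ARSys.PS C) (k : ℕ) {n m : ℕ} (h : n ≤ m) :
    ARSys.tr (DerCA.reindex Y (mono_add k)) h = ARSys.tr Y (Nat.add_le_add_left h k) := rfl

/-- The morphism to a constant system induced by a map out of one level. -/
def toConst (Y : ARSys.PS C) (k : ℕ) {B : C} (ψ : Y.obj (op k) ⟶ B) :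
    DerCA.reindex Y (mono_add k) ⟶ (Functor.const ℕᵒᵖ).obj B where
  app j := ARSys.tr Y (Nat.le_add_right k j.unop) ≫ ψ
  naturality j j' e := by
    change ARSys.tr Y (Nat.add_le_add_left (leOfHom e.unop) k) ≫
      ARSys.tr Y (Nat.le_add_right k j'.unop) ≫ ψ = (ARSys.tr Y (Nat.le_add_right k j.unop) ≫ ψ) ≫ 𝟙 B
    rw [Category.comp_id, ← Category.assoc, tr_comp]

/-- A system pro-isomorphic to a constant one after reindexing is essentially constant. -/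
theorem exists_cone (Y : ARSys.PS C) (k : ℕ) {B : C} (ψ : Y.obj (op k) ⟶ B)
    (h : DerCA.IsProIso (toConst Y k ψ)) :
    ∃ c : (Functor.const ℕᵒᵖ).obj B ⟶ Y, DerCA.IsEssConstant Y B c := by
  have h' : ∀ n, ∃ (m : ℕ) (hm : n ≤ m) (b : B ⟶ Y.obj (op (k + n))),
      (ARSys.tr Y (Nat.le_add_right k m) ≫ ψ) ≫ b = ARSys.tr Y (Nat.add_le_add_left hm k) ∧
        b ≫ ARSys.tr Y (Nat.le_add_right k n) ≫ ψ = 𝟙 B := h
  choose M hM b hb hb' using h'
  have hcompat : ∀ (n' n : ℕ) (hn : n' ≤ n),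
      b n ≫ ARSys.tr Y (Nat.add_le_add_left hn k) = b n' := fun n' n hn => by
    have e : ∀ (L j : ℕ) (hj : M j ≤ L), (ARSys.tr Y (Nat.le_add_right k L) ≫ ψ) ≫ b j =
        ARSys.tr Y (Nat.add_le_add_left ((hM j).trans hj) k) := fun L j hj => by
      rw [← tr_comp Y (Nat.le_add_right k (M j)) (Nat.add_le_add_left hj k), Category.assoc,
        Category.assoc, ← Category.assoc (ARSys.tr Y (Nat.le_add_right k (M j))), hb, tr_comp]
    have : IsSplitEpi (ARSys.tr Y (Nat.le_add_right k (max (M n) (M n'))) ≫ ψ) :=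
      IsSplitEpi.mk' ⟨b _, hb' _⟩
    rw [← cancel_epi (ARSys.tr Y (Nat.le_add_right k (max (M n) (M n'))) ≫ ψ), ← Category.assoc,
      e _ n (le_max_left _ _), e _ n' (le_max_right _ _), tr_comp]
  refine ⟨{ app := fun j => b j.unop ≫ ARSys.tr Y (Nat.le_add_left j.unop k)
            naturality := fun j j' e => ?_ }, ?_⟩
  · change 𝟙 B ≫ b j'.unop ≫ ARSys.tr Y (Nat.le_add_left j'.unop k) =
      (b j.unop ≫ ARSys.tr Y (Nat.le_add_left j.unop k)) ≫ ARSys.tr Y (leOfHom e.unop)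
    rw [Category.id_comp, ← hcompat _ _ (leOfHom e.unop), Category.assoc, Category.assoc,
      tr_comp, tr_comp]
  · rw [isEssConstant_iff_isProIso]
    intro j
    refine ⟨k + M j, (hM j).trans (Nat.le_add_left _ _),
      ARSys.tr Y (Nat.le_add_right k (M j)) ≫ ψ, ?_, ?_⟩
    · change (b (k + M j) ≫ ARSys.tr Y (Nat.le_add_left (k + M j) k)) ≫
        ARSys.tr Y (Nat.le_add_right k (M j)) ≫ ψ = 𝟙 B
      rw [Category.assoc, ← Category.assoc (ARSys.tr Y (Nat.le_add_left (k + M j) k)), tr_comp]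
      exact hb' (k + M j)
    · change (ARSys.tr Y (Nat.le_add_right k (M j)) ≫ ψ) ≫ b j ≫
        ARSys.tr Y (Nat.le_add_left j k) = ARSys.tr Y _
      rw [← Category.assoc, hb, tr_comp]

lemma isProIso_toConst (Y : ARSys.PS C) (A : C) (c : (Functor.const ℕᵒᵖ).obj A ⟶ Y) (i k : ℕ)
    (hik : i ≤ k) (s : Y.obj (op i) ⟶ A) (hs : c.app (op i) ≫ s = 𝟙 A)
    (hk : ∀ j : ℕ, ∃ (l : ℕ) (hi : i ≤ l) (hj : j ≤ l),
      ARSys.tr Y hj = ARSys.tr Y hi ≫ s ≫ c.app (op j)) :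
    DerCA.IsProIso (toConst Y k (ARSys.tr Y hik ≫ s)) := by
  intro n
  obtain ⟨l, hi, hn, e⟩ := hk (k + n)
  refine ⟨l, (Nat.le_add_left n k).trans hn, c.app (op (k + n)), ?_, ?_⟩
  · change (ARSys.tr Y (Nat.le_add_right k l) ≫ ARSys.tr Y hik ≫ s) ≫ c.app (op (k + n)) =
      ARSys.tr Y (Nat.add_le_add_left ((Nat.le_add_left n k).trans hn) k)
    rw [← tr_comp Y hn (Nat.le_add_left l k), e, ← Category.assoc (ARSys.tr Y _) (ARSys.tr Y hik),
      tr_comp, ← Category.assoc (ARSys.tr Y (Nat.le_add_left l k)), tr_comp, Category.assoc]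
  · change c.app (op (k + n)) ≫ ARSys.tr Y (Nat.le_add_right k n) ≫ ARSys.tr Y hik ≫ s = 𝟙 A
    rw [← Category.assoc (ARSys.tr Y (Nat.le_add_right k n)), tr_comp, ← Category.assoc,
      ← tr_nat c]
    erw [Category.id_comp]
    exact hs

end Const

section TwoOfThree

variable {D : Type u} [Category.{v} D] [Preadditive D] [HasZeroObject D] [HasShift D ℤ]
  [∀ n : ℤ, (shiftFunctor D n).Additive] [Pretriangulated D]
  {X Y Z : ARSys.PS D} {f : X ⟶ Y} {g : Y ⟶ Z} {h : Z ⟶ X ⋙ shiftFunctor D (1 : ℤ)}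

/-- Essential constancy of the middle system. -/
theorem exists_isEssConstant_middle (hT : IsDist f g h)
    (hX : ∃ (A : D) (cA : (Functor.const ℕᵒᵖ).obj A ⟶ X), DerCA.IsEssConstant X A cA)
    (hZ : ∃ (C : D) (cC : (Functor.const ℕᵒᵖ).obj C ⟶ Z), DerCA.IsEssConstant Z C cC) :
    ∃ (B : D) (cB : (Functor.const ℕᵒᵖ).obj B ⟶ Y), DerCA.IsEssConstant Y B cB := by
  obtain ⟨A, cA, i, s, hs, hX⟩ := hX
  obtain ⟨C, cC, i', s', hs', hZ⟩ := hZ
  obtain ⟨k, hi'k, hpk, ek⟩ := hZ (max i i')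
  have hik : i ≤ k := (le_max_left i i').trans hpk
  let δ : C ⟶ A⟦(1 : ℤ)⟧ := cC.app (op i) ≫ h.app (op i) ≫ s⟦(1 : ℤ)⟧'
  obtain ⟨B, p, q, hB⟩ := distinguished_cocone_triangle₂ δ
  have hk : h.app (op k) ≫ (ARSys.tr X hik ≫ s)⟦(1 : ℤ)⟧' = (ARSys.tr Z hi'k ≫ s') ≫ δ := by
    have hc : cC.app (op (max i i')) ≫ ARSys.tr Z (le_max_left i i') = cC.app (op i) := by
      rw [← tr_nat cC]; exact Category.id_comp _
    rw [Functor.map_comp, ← Category.assoc, ← h_nat, ← tr_comp Z (le_max_left i i') hpk, ek]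
    simp only [δ, Category.assoc]
    erw [reassoc_of% hc]
  obtain ⟨ψ, hψ₁, hψ₂⟩ : ∃ ψ : Y.obj (op k) ⟶ B, f.app (op k) ≫ ψ = (ARSys.tr X hik ≫ s) ≫ p ∧
      g.app (op k) ≫ ARSys.tr Z hi'k ≫ s' = ψ ≫ q :=
    complete_distinguished_triangle_morphism₂ _ _ (hT k) hB (ARSys.tr X hik ≫ s)
      (ARSys.tr Z hi'k ≫ s') hk
  let fR : DerCA.reindex X (mono_add k) ⟶ DerCA.reindex Y (mono_add k) :=
    Functor.whiskerLeft _ f
  let gR : DerCA.reindex Y (mono_add k) ⟶ DerCA.reindex Z (mono_add k) :=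
    Functor.whiskerLeft _ g
  let hR : DerCA.reindex Z (mono_add k) ⟶
      DerCA.reindex X (mono_add k) ⋙ shiftFunctor D (1 : ℤ) :=
    Functor.whiskerLeft (Monotone.functor (mono_add k)).op h
  let δ' : (Functor.const ℕᵒᵖ).obj C ⟶ (Functor.const ℕᵒᵖ).obj A ⋙ shiftFunctor D (1 : ℤ) :=
    { app := fun _ => δ, naturality := fun _ _ _ => by simp }
  have hTR : IsDist fR gR hR := fun n => hT (k + n)
  have hT' : IsDist ((Functor.const ℕᵒᵖ).map p) ((Functor.const ℕᵒᵖ).map q) δ' := fun _ => hB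
  have hP := isProIso_middle hTR hT' (toConst X k (ARSys.tr X hik ≫ s)) (toConst Y k ψ)
    (toConst Z k (ARSys.tr Z hi'k ≫ s')) ?_ ?_ ?_ (isProIso_toConst X A cA i k hik s hs hX)
    (isProIso_toConst Z C cC i' k hi'k s' hs' hZ)
  · obtain ⟨c, hc⟩ := exists_cone Y k ψ hP
    exact ⟨B, c, hc⟩
  · ext j
    change f.app (op (k + j.unop)) ≫ ARSys.tr Y _ ≫ ψ = (ARSys.tr X _ ≫ ARSys.tr X hik ≫ s) ≫ p
    rw [← Category.assoc (f.app _), ← tr_nat f, Category.assoc, hψ₁]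
    simp only [Category.assoc]
  · ext j
    change g.app (op (k + j.unop)) ≫ ARSys.tr Z _ ≫ ARSys.tr Z hi'k ≫ s' = (ARSys.tr Y _ ≫ ψ) ≫ q
    rw [← Category.assoc (g.app _), ← tr_nat g, Category.assoc, hψ₂]
    simp only [Category.assoc]
  · ext j
    change h.app (op (k + j.unop)) ≫ (ARSys.tr X (Nat.le_add_right k j.unop) ≫
      ARSys.tr X hik ≫ s)⟦(1 : ℤ)⟧' = (ARSys.tr Z (Nat.le_add_right k j.unop) ≫ ARSys.tr Z hi'k ≫ s') ≫ δ
    rw [Functor.map_comp, ← Category.assoc, ← h_nat, Category.assoc, hk]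
    simp only [Category.assoc]

/-- Decomposition of an essentially constant system. -/
theorem exists_decomposition (X : ARSys.PS D) (A : D) (c : (Functor.const ℕᵒᵖ).obj A ⟶ X)
    (hX : DerCA.IsEssConstant X A c) :
    ∃ (i : ℕ) (Z : ℕ → D) (e : ∀ j : ℕ, X.obj (op (i + j)) ≅ A ⊞ Z j) (z : ∀ j k : ℕ, j ≤ k → (Z k ⟶ Z j)),
      (∀ j : ℕ, c.app (op (i + j)) ≫ (e j).hom = biprod.inl) ∧
      (∀ (j k : ℕ) (hjk : j ≤ k), (e k).inv ≫ ARSys.tr X (Nat.add_le_add_left hjk i) = biprod.map (𝟙 A) (z j k hjk) ≫ (e j).inv) ∧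
      (∀ j : ℕ, ∃ (k : ℕ) (hjk : j ≤ k), z j k hjk = 0) := by
  obtain ⟨i, s, hs, hk⟩ := hX
  let r : ∀ j, X.obj (op (i + j)) ⟶ A := fun j => ARSys.tr X (Nat.le_add_right i j) ≫ s
  let cc : ∀ j, A ⟶ X.obj (op (i + j)) := fun j => c.app (op (i + j))
  have hcnat : ∀ j j' (h : j ≤ j'), cc j' ≫ ARSys.tr X (Nat.add_le_add_left h i) = cc j :=
    fun j j' h => by
      simp only [cc]
      rw [← tr_nat c]
      exact Category.id_comp _
  have hcr : ∀ j, cc j ≫ r j = 𝟙 A := fun j => by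
    simp only [r, cc]
    rw [← Category.assoc, ← tr_nat c]
    erw [Category.id_comp]
    exact hs
  have hex : ∀ j, ∃ (Z : D) (p : X.obj (op (i + j)) ⟶ Z) (q : Z ⟶ X.obj (op (i + j))),
      cc j ≫ p = 0 ∧ q ≫ r j = 0 ∧ q ≫ p = 𝟙 Z ∧ r j ≫ cc j + p ≫ q = 𝟙 _ := by
    intro j
    obtain ⟨Z, p, d, hT⟩ := distinguished_cocone_triangle (cc j)
    have : Mono (cc j) := (SplitMono.mk (r j) (hcr j)).mono
    have hd : d = 0 := (Triangle.mor₃_eq_zero_iff_mono₁ _ hT).2 this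
    have : Epi p := Triangle.epi₂ _ hT hd
    obtain ⟨q, hq⟩ : ∃ q : Z ⟶ X.obj (op (i + j)), 𝟙 _ - r j ≫ cc j = p ≫ q :=
      Triangle.yoneda_exact₂ _ hT (𝟙 _ - r j ≫ cc j) (by
        change cc j ≫ _ = 0
        rw [Preadditive.comp_sub, Category.comp_id, reassoc_of% hcr j, sub_self])
    have hp : cc j ≫ p = 0 := comp_distTriang_mor_zero₁₂ _ hT
    refine ⟨Z, p, q, hp, ?_, ?_, by rw [← hq]; abel⟩
    · rw [← cancel_epi p, comp_zero, ← reassoc_of% hq, Preadditive.sub_comp, Category.id_comp,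
        Category.assoc, hcr, Category.comp_id, sub_self]
    · rw [← cancel_epi p, ← reassoc_of% hq, Preadditive.sub_comp, Category.id_comp,
        Category.assoc, hp, comp_zero, sub_zero]
      exact (Category.comp_id p).symm
  choose Z p q hcp hqr hqp htot using hex
  let e : ∀ j, X.obj (op (i + j)) ≅ A ⊞ Z j := fun j =>
    ⟨biprod.lift (r j) (p j), biprod.desc (cc j) (q j), by rw [biprod.lift_desc]; exact htot j,
      by ext <;> simp [hcr, hcp, hqr, hqp]⟩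
  have hrnat : ∀ j j' (h : j ≤ j'), ARSys.tr X (Nat.add_le_add_left h i) ≫ r j = r j' :=
    fun j j' h => by simp only [r]; rw [← Category.assoc, tr_comp]
  refine ⟨i, Z, e, fun j k h => q k ≫ ARSys.tr X (Nat.add_le_add_left h i) ≫ p j,
    fun j => ?_, fun j k hjk => ?_, fun j => ?_⟩
  · change cc j ≫ biprod.lift (r j) (p j) = biprod.inl
    ext <;> simp [hcr, hcp]
  · change biprod.desc (cc k) (q k) ≫ _ = _ ≫ biprod.desc (cc j) (q j)
    ext
    · simp [hcnat j k hjk]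
    · simp only [biprod.inr_desc_assoc, biprod.inr_map_assoc, biprod.inr_desc, Category.assoc]
      conv_lhs => rw [← Category.comp_id (ARSys.tr X _), ← htot j, Preadditive.comp_add,
        Preadditive.comp_add, reassoc_of% hrnat j k hjk, reassoc_of% hqr k, zero_comp, zero_add]
  · obtain ⟨k, hi, hj, ek⟩ := hk (i + j)
    obtain ⟨d, rfl⟩ : ∃ d, k = i + d := ⟨k - i, by omega⟩
    refine ⟨d, by omega, ?_⟩
    change q d ≫ ARSys.tr X _ ≫ p j = 0
    rw [ek]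
    simp only [Category.assoc]
    change q d ≫ ARSys.tr X _ ≫ s ≫ cc j ≫ p j = 0
    rw [hcp, comp_zero, comp_zero, comp_zero]

end TwoOfThree

end Groth.Agent.Lib.ProSys.Triangles
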